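import Cfsg.Agent.H461.T5M.Conway
import Cfsg.Agent.H461.T5.HS

/-!
# Middle pairs of elements of order 5 in `HS` and the groups between it and `Co0` (helper461)
-/

set_option autoImplicit false
set_option maxRecDepth 100000

namespace Cfsg.Agent.H461.T5

open Subgroup Cfsg Cfsg.Agent.SporadicA Cfsg.Agent.SporadicStructure.Co0Matrix Cfsg.Agent.CoOneType.CoEval
open Cfsg.Agent.LThreeCo1.Ev Cfsg.Agent.LThreeMB.Fix Cfsg.Agent.H573.Spor.Co0 Cfsg.Agent.H957.T5M

namespace HS

open Cfsg.Agent.H573.Spor.HSFive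

theorem chkM_of {M : ℕ → List (List ℤ)} {p k i : ℕ}
    (h : ∀ j < p + 2, i ≤ j → neB' M (wzp p k i j) [] = true) : chkM M p k i = true := by
  unfold chkM
  rw [List.all_eq_true]
  intro j hj
  rw [List.mem_range] at hj
  rcases Nat.lt_or_ge j i with h1 | h1
  · have h0 : Nat.blt j i = true := by rw [Nat.blt_eq]; exact h1
    rw [h0, cond_true]
  · rw [h j hj h1]
    cases Nat.blt j i <;> rfl

theorem nn_0_0 : neB' Ms (wzp 5 2 0 0) [] = true := by decide +kernel

theorem nn_0_1 : neB' Ms (wzp 5 2 0 1) [] = true := by decide +kernel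

theorem nn_0_2 : neB' Ms (wzp 5 2 0 2) [] = true := by decide +kernel

theorem nn_0_3 : neB' Ms (wzp 5 2 0 3) [] = true := by decide +kernel

theorem nn_0_4 : neB' Ms (wzp 5 2 0 4) [] = true := by decide +kernel

theorem nn_0_5 : neB' Ms (wzp 5 2 0 5) [] = true := by decide +kernel

theorem nn_0_6 : neB' Ms (wzp 5 2 0 6) [] = true := by decide +kernel

theorem nn_1_1 : neB' Ms (wzp 5 2 1 1) [] = true := by decide +kernel

theorem nn_1_2 : neB' Ms (wzp 5 2 1 2) [] = true := by decide +kernel

theorem nn_1_3 : neB' Ms (wzp 5 2 1 3) [] = true := by decide +kernel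

theorem nn_1_4 : neB' Ms (wzp 5 2 1 4) [] = true := by decide +kernel

theorem nn_1_5 : neB' Ms (wzp 5 2 1 5) [] = true := by decide +kernel

theorem nn_1_6 : neB' Ms (wzp 5 2 1 6) [] = true := by decide +kernel

theorem nn_2_2 : neB' Ms (wzp 5 2 2 2) [] = true := by decide +kernel

theorem nn_2_3 : neB' Ms (wzp 5 2 2 3) [] = true := by decide +kernel

theorem nn_2_4 : neB' Ms (wzp 5 2 2 4) [] = true := by decide +kernel

theorem nn_2_5 : neB' Ms (wzp 5 2 2 5) [] = true := by decide +kernel

theorem nn_2_6 : neB' Ms (wzp 5 2 2 6) [] = true := by decide +kernel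

theorem nn_3_3 : neB' Ms (wzp 5 2 3 3) [] = true := by decide +kernel

theorem nn_3_4 : neB' Ms (wzp 5 2 3 4) [] = true := by decide +kernel

theorem nn_3_5 : neB' Ms (wzp 5 2 3 5) [] = true := by decide +kernel

theorem nn_3_6 : neB' Ms (wzp 5 2 3 6) [] = true := by decide +kernel

theorem nn_4_4 : neB' Ms (wzp 5 2 4 4) [] = true := by decide +kernel

theorem nn_4_5 : neB' Ms (wzp 5 2 4 5) [] = true := by decide +kernel

theorem nn_4_6 : neB' Ms (wzp 5 2 4 6) [] = true := by decide +kernel

theorem nn_5_5 : neB' Ms (wzp 5 2 5 5) [] = true := by decide +kernel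

theorem nn_5_6 : neB' Ms (wzp 5 2 5 6) [] = true := by decide +kernel

theorem nn_6_6 : neB' Ms (wzp 5 2 6 6) [] = true := by decide +kernel

theorem chkM_all : ∀ i < 5 + 2, chkM Ms 5 2 i = true := by
  intro i hi
  interval_cases i
  · refine chkM_of fun j hj hij => ?_
    interval_cases j
    · exact nn_0_0
    · exact nn_0_1
    · exact nn_0_2
    · exact nn_0_3
    · exact nn_0_4
    · exact nn_0_5
    · exact nn_0_6
  · refine chkM_of fun j hj hij => ?_
    interval_cases j
    · exact nn_1_1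
    · exact nn_1_2
    · exact nn_1_3
    · exact nn_1_4
    · exact nn_1_5
    · exact nn_1_6
  · refine chkM_of fun j hj hij => ?_
    interval_cases j
    · exact nn_2_2
    · exact nn_2_3
    · exact nn_2_4
    · exact nn_2_5
    · exact nn_2_6
  · refine chkM_of fun j hj hij => ?_
    interval_cases j
    · exact nn_3_3
    · exact nn_3_4
    · exact nn_3_5
    · exact nn_3_6
  · refine chkM_of fun j hj hij => ?_
    interval_cases j
    · exact nn_4_4
    · exact nn_4_5
    · exact nn_4_6
  · refine chkM_of fun j hj hij => ?_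
    interval_cases j
    · exact nn_5_5
    · exact nn_5_6
  · refine chkM_of fun j hj hij => ?_
    interval_cases j
    · exact nn_6_6

/-- **the pairs of elements of order 5** of a subgroup of `Co₀` containing `HS` -/
theorem mpair (X : Subgroup (Equiv.Perm leechLattice)) (hX : X ≤ Co0) (hXM : ∀ g ∈ Spor.HS, g ∈ X)
    (h4 : ¬ 5 ^ 4 ∣ Nat.card X) {x y : X} (hx : orderOf x = 5) (hy : orderOf y = 5) : MPair 5 (⊤ : Subgroup X) x y :=
  have : Fact (Nat.Prime 5) := ⟨by norm_num⟩
  mpair_of_le (e := e) (by norm_num) 2 X hX h4 hM chkM_all gh (hXM _ memA) (hXM _ memB) (hXM _ memC) (hXM _ memG) a_pow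
    b_pow c_pow c_ne ac bc ab hx hy

end HS

end Cfsg.Agent.H461.T5
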