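import Cfsg.Agent.H461.T5M.Cube
import Cfsg.Agent.H461.T5.Ru

/-!
# Middle pairs of elements of order 5 in the Rudvalis group (helper461)
-/

set_option autoImplicit false
set_option maxRecDepth 100000

namespace Cfsg.Agent.H461.T5.Ru

open Subgroup Cfsg Cfsg.Agent.H533.T5 Cfsg.Agent.H461.T5 Cfsg.Agent.H957.T5M
open Cfsg.Agent.Lib Cfsg.Agent.SporadicB Cfsg.Agent.SporadicB.RuOrder Cfsg.Agent.RuD.Letters
open Cfsg.Agent.SporRec.TCUpperCert Cfsg.Agent.CpAutRuFive
open Cfsg.Agent.KFacts.Ru Cfsg.Agent.KFacts.Ru.CentEng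

/-- the word of `r_i (w s_j w) ^ 2` -/
def wz (i j : ℕ) : List ℕ := wr i ++ (ws j ++ ws j)

/-- its fifth power -/
def wzp (i j : ℕ) : List ℕ := wz i j ++ (wz i j ++ (wz i j ++ (wz i j ++ wz i j)))

/-- the check for the pairs `i ≤ j` of representatives, at the point 0 -/
noncomputable def chkM : Bool :=
  (List.range 7).all fun i => (List.range 7).all fun j =>
    bif Nat.blt j i then true else !Nat.beq (evalK (wzp i j) 0) 0

/-- the row `i` of the check (split for the memory of the kernel check) -/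
noncomputable def chkMRow (i : ℕ) : Bool :=
  (List.range 7).all fun j => bif Nat.blt j i then true else !Nat.beq (evalK (wzp i j) 0) 0

theorem chkMRow_0 : chkMRow 0 = true := by decide +kernel
theorem chkMRow_1 : chkMRow 1 = true := by decide +kernel
theorem chkMRow_2 : chkMRow 2 = true := by decide +kernel
theorem chkMRow_3 : chkMRow 3 = true := by decide +kernel
theorem chkMRow_4 : chkMRow 4 = true := by decide +kernel
theorem chkMRow_5 : chkMRow 5 = true := by decide +kernel
theorem chkMRow_6 : chkMRow 6 = true := by decide +kernel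

theorem chkM_all : chkM = true := by
  refine List.all_eq_true.2 fun i hi => ?_
  have hi' : i < 7 := List.mem_range.1 hi
  change chkMRow i = true
  match i, hi' with
  | 0, _ => exact chkMRow_0
  | 1, _ => exact chkMRow_1
  | 2, _ => exact chkMRow_2
  | 3, _ => exact chkMRow_3
  | 4, _ => exact chkMRow_4
  | 5, _ => exact chkMRow_5
  | 6, _ => exact chkMRow_6
  | n + 7, h => exact absurd h (by omega)

theorem pow_ne_le {i j : ℕ} (hi : i < 7) (hj : j < 7) (hij : i ≤ j) :
    (P (wr i) ^ 1 * (P [2] * P (wr j) * (P [2])⁻¹) ^ 2) ^ 5 ≠ 1 := by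
  have hg : (P [2])⁻¹ = P [2] := by
    apply inv_eq_of_mul_eq_one_right
    rw [← P_append]
    exact eq_of_chkEq chk_g
  have h1 := List.all_eq_true.1 (List.all_eq_true.1 chkM_all i (List.mem_range.2 hi)) j (List.mem_range.2 hj)
  have h0 : Nat.blt j i = false := by
    rw [← Bool.not_eq_true, Nat.blt_eq]
    omega
  rw [h0, cond_false] at h1
  intro h
  have h4 : P (wzp i j) = 1 := by
    rw [← h, hg]
    simp only [wzp, wz, ws, P_append, pow_succ, pow_zero, one_mul, mul_assoc]
  have h2 := evalK_eq (wzp i j) ⟨0, by norm_num⟩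
  rw [show (wprod ml (wzp i j) : RuOrder.H) = 1 from h4] at h2
  simp only [Bool.not_eq_true'] at h1
  exact Nat.ne_of_beq_eq_false h1 h2.symm

/-- **the pairs of elements of order 5 of the Rudvalis group** -/
theorem mpair {x y : RuOrder.H} (hx : orderOf x = 5) (hy : orderOf y = 5) : MPair 5 (⊤ : Subgroup RuOrder.H) x y := by
  have : Fact (Nat.Prime 5) := ⟨by norm_num⟩
  have : Finite RuOrder.H := finite_H
  have hac := eq_of_chkEq chk_ac
  have hbc := eq_of_chkEq chk_bc
  have hab := eq_of_chkEq chk_ab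
  simp only [wprod_append] at hac hbc hab
  refine mpair_of_cube (by norm_num) (by rw [card_H]; norm_num) (a := P wa) (b := P wb) (c := P wc) (pow_five chk_a)
    (pow_five chk_b) (pow_five chk_c) ?_ hac hbc hab (fun r s hr hs => ?_) hx hy
  · intro h
    have h2 := evalK_eq wc ⟨1, by norm_num⟩
    have h3 : (wprod ml wc : RuOrder.H) = 1 := h
    rw [h3] at h2
    exact Nat.ne_of_beq_eq_false chk_ne h2.symm
  · obtain ⟨i, hi, rfl⟩ := word_of_rp hr
    obtain ⟨j, hj, rfl⟩ := word_of_rp hs
    rcases le_total i j with hij | hij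
    · exact Or.inl ⟨P [2], 1, 2, pow_ne_le hi hj hij⟩
    · exact Or.inr ⟨P [2], 1, 2, pow_ne_le hj hi hij⟩

end Cfsg.Agent.H461.T5.Ru
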