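import Cfsg.Agent.H461.T5M.McL
import Cfsg.Agent.H461.T5M.HS
import Cfsg.Agent.H461.T5M.Ru
import Cfsg.Agent.H461.T5.SpA

/-!
# The middle rows `(HS, 5)`, `(McL, 5)`, `(Ru, 5)` (helper461)

`hs`, `mcl`, `ru` : the rows; the fields of `H143.T5SporM.SporBigM` are `fun K _ _ _ _ h _ => MRows.hs K h` etc.
-/

set_option autoImplicit false

namespace Cfsg.Agent.H461.T5.MRows

open Subgroup Cfsg Cfsg.Agent.H533.T5 Cfsg.Agent.H461.T5 Cfsg.Agent.H957.T5M Cfsg.Agent.H106.MB

universe u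

/-- a row from the pairs in a model, and the automorphisms of odd order -/
theorem mrow_of_oddInn {K H : Type*} [Group K] [Finite K] [IsSimpleGroup K] [Group H] {p : ℕ} (hp : p.Prime) (hp2 : p ≠ 2)
    (hcard : ¬ (Nat.card K).Prime) (hinn : Cfsg.Agent.BpSpor.Inn.OddInn K) (e : K ≃* H)
    (h : ∀ x y : H, orderOf x = p → orderOf y = p → MPair p (⊤ : Subgroup H) x y) : MRow p K := by
  refine MRow.of_inner (not_comm_of_card hcard) (fun a ha => ?_) (Cfsg.Agent.H797.T5.AllM.congr h e)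
  obtain ⟨g, rfl⟩ := hinn p hp hp2 a ha
  exact ⟨g, rfl⟩

theorem hs (K : Type u) [Group K] [Finite K] [IsSimpleGroup K] (h : Spor.IsoHS K) : MRow 5 K := by
  have hc : Nat.card K = 44352000 := (Cfsg.Agent.BpSpor.Row.dat_hs h).card
  have hinn := (Cfsg.Agent.BpSpor.Row.dat_hs h).inn
  obtain ⟨e⟩ := h
  have hc' : Nat.card Spor.HS = 44352000 := by rw [← Nat.card_congr e.toEquiv, hc]
  exact mrow_of_oddInn (by norm_num) (by norm_num) (by rw [hc]; norm_num) hinn e
    fun x y hx hy => HS.mpair Spor.HS (fun _ h => h.1.1) (fun _ h => h) (by rw [hc']; norm_num) hx hy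

theorem mcl (K : Type u) [Group K] [Finite K] [IsSimpleGroup K] (h : Spor.IsoMcL K) : MRow 5 K := by
  obtain ⟨e⟩ := h
  have hc' : Nat.card Spor.McL = 898128000 := Cfsg.Agent.H573.Spor.card_McL
  have hc : Nat.card K = 898128000 := by rw [Nat.card_congr e.toEquiv, hc']
  have hinn : Cfsg.Agent.BpSpor.Inn.OddInn K := Cfsg.Agent.BpSpor.Inn.OddInn.congr e
    (Cfsg.Agent.BpSpor.Inn.of_pow fun α => by
      rw [pow_two]; exact Cfsg.Agent.CpAut.SmallP.McL.sq_inner α)
  exact mrow_of_oddInn (by norm_num) (by norm_num) (by rw [hc]; norm_num) hinn e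
    fun x y hx hy => McL.mpair Spor.McL (fun _ h => h.1.1) (fun _ h => h) (by rw [hc']; norm_num) hx hy

theorem ru (K : Type u) [Group K] [Finite K] [IsSimpleGroup K] (h : Spor.IsoRu K) : MRow 5 K := by
  have hc : Nat.card K = 145926144000 := (Cfsg.Agent.BpSpor.Row.dat_ru h).card
  have hinn := (Cfsg.Agent.BpSpor.Row.dat_ru h).inn
  obtain ⟨e⟩ := h
  exact mrow_of_oddInn (by norm_num) (by norm_num) (by rw [hc]; norm_num) hinn (e.trans RuLat.Main.equiv)
    fun x y hx hy => Ru.mpair hx hy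

end Cfsg.Agent.H461.T5.MRows
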