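import Cfsg.Agent.H461.T5.Cube
import Cfsg.Agent.H797.T5.MCong

/-!
# Middle pairs in groups with Sylow `p`-subgroups of order `p ^ 3`: a certificate (helper461)

`mpair_of_cube` : `p` odd, `p ^ 4 ∤ |G|`, `a`, `b`, `c` of order `p` with `a b = b a c`, `c ≠ 1` commuting with `a` and `b`;
then the Sylow subgroup `⟨a, b⟩` has exponent `p`, its subgroups of order `p` are up to conjugation `⟨c⟩`, `⟨a⟩` and
`⟨a ^ t b⟩`, `t < p`, and all pairs of elements of order `p` of `G` are fine if for all representatives `r`, `s` (in one of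
the two orders) some conjugate `s'` of `s` has `(r ^ i s' ^ j) ^ p ≠ 1` for some `i`, `j`.
-/

set_option autoImplicit false

namespace Cfsg.Agent.H461.T5

open Subgroup Cfsg.Agent.H533.T5 Cfsg.Agent.H957.T5M

section Words

variable {G : Type*} [Group G] {p : ℕ} {a b c : G}

theorem nf_pow (hbc : b * c = c * b) (hac : a * c = c * a) (hab : a * b = b * a * c) (i j k n : ℕ) :
    (b ^ i * a ^ j * c ^ k) ^ n = b ^ (n * i) * a ^ (n * j) * c ^ (n * k + i * j * n.choose 2) := by
  induction n with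
  | zero => simp
  | succ n ih =>
    have h2 : (n + 1).choose 2 = n + n.choose 2 := by rw [Nat.choose_succ_succ' n 1, Nat.choose_one_right]
    rw [pow_succ, ih, nf_mul hbc hac hab, h2, show n * i + i = (n + 1) * i by ring,
      show n * j + j = (n + 1) * j by ring,
      show n * j * i + (n * k + i * j * n.choose 2) + k = (n + 1) * k + i * j * (n + n.choose 2) by ring]

theorem nf_pow_p (hp : p.Prime) (hp2 : p ≠ 2) (ha : a ^ p = 1) (hb : b ^ p = 1) (hc : c ^ p = 1) (hbc : b * c = c * b)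
    (hac : a * c = c * a) (hab : a * b = b * a * c) (i j k : ℕ) : (b ^ i * a ^ j * c ^ k) ^ p = 1 := by
  have h2 : p ∣ p.choose 2 := hp.dvd_choose_self (by norm_num) (by have := hp.two_le; omega)
  obtain ⟨m, hm⟩ := h2
  rw [nf_pow hbc hac hab, pow_mul, hb, one_pow, pow_mul, ha, one_pow, hm,
    show p * k + i * j * (p * m) = p * (k + i * j * m) by ring, pow_mul, hc, one_pow, one_mul, one_mul]

end Words

section Main

variable {G : Type*} [Group G] {p : ℕ}

/-- **The certificate**: groups with Sylow `p`-subgroups of order `p ^ 3`. -/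
theorem mpair_of_cube [Finite G] [Fact p.Prime] (hp2 : p ≠ 2) (h4 : ¬ p ^ 4 ∣ Nat.card G) {a b c : G} (ha : a ^ p = 1)
    (hb : b ^ p = 1) (hc : c ^ p = 1) (hc1 : c ≠ 1) (hac : a * c = c * a) (hbc : b * c = c * b) (hab : a * b = b * a * c)
    (H : ∀ r s : G, Rp p a b c r → Rp p a b c s →
      (∃ g : G, ∃ i j : ℕ, (r ^ i * (g * s * g⁻¹) ^ j) ^ p ≠ 1) ∨
      (∃ g : G, ∃ i j : ℕ, (s ^ i * (g * r * g⁻¹) ^ j) ^ p ≠ 1))
    {x y : G} (hx : orderOf x = p) (hy : orderOf y = p) : MPair p (⊤ : Subgroup G) x y := by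
  have hp : p.Prime := Fact.out
  -- the Sylow subgroup
  obtain ⟨Q, hQ, haQ, hbQ⟩ := Cfsg.Agent.H573.exists_pgroup_of_class_two (p := p) (a := a) (b := b) (c := c) (i := 1) (j := 1)
    (k := 1) (by rw [pow_one, ha]) (by rw [pow_one, hb]) (by rw [pow_one, hc]) hac hbc hab
  have hle : closure ({a, b} : Set G) ≤ Q := by
    rw [closure_le]
    rintro z (rfl | rfl)
    · exact haQ
    · exact hbQ
  have hP : IsPGroup p (closure ({a, b} : Set G)) := hQ.to_le hle
  have hidx : ¬ p ∣ (closure ({a, b} : Set G)).index := by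
    intro hd
    obtain ⟨n, hn⟩ := IsPGroup.iff_card.1 hP
    have hn3 : 3 ≤ n := by
      by_contra hlt
      have hcomm : ∀ u v : closure ({a, b} : Set G), u * v = v * u := by
        have hn2 : n ≤ 2 := by omega
        interval_cases n
        · have h1 : Subsingleton (closure ({a, b} : Set G)) := (Nat.card_eq_one_iff_unique.1 (by simpa using hn)).1
          exact fun u v => Subsingleton.elim _ _
        · have h1 : IsCyclic (closure ({a, b} : Set G)) := isCyclic_of_prime_card (p := p) (by simpa using hn)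
          let _ := IsCyclic.commGroup (α := (closure ({a, b} : Set G)))
          exact fun u v => mul_comm u v
        · exact fun u v => (IsPGroup.isMulCommutative_of_card_eq_prime_sq hn).1.1 u v
      have h1 := congrArg Subtype.val (hcomm ⟨a, subset_closure (by simp)⟩ ⟨b, subset_closure (by simp)⟩)
      change a * b = b * a at h1
      rw [hab] at h1
      exact hc1 (mul_eq_left.1 h1)
    apply h4
    rw [← Subgroup.card_mul_index (closure ({a, b} : Set G)), hn]
    calc p ^ 4 = p ^ 3 * p := by rw [pow_succ]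
      _ ∣ p ^ n * (closure ({a, b} : Set G)).index := Nat.mul_dvd_mul (pow_dvd_pow p hn3) hd
  have hexp : ∀ z ∈ closure ({a, b} : Set G), z ^ p = 1 := by
    intro z hz
    obtain ⟨i, j, k, rfl⟩ := exists_nf hbc hac hab hz
    exact nf_pow_p hp hp2 ha hb hc hbc hac hab i j k
  let P : Sylow p G := hP.toSylow hidx
  have hPexp : ∀ z ∈ (P : Subgroup G), z ^ p = 1 := hexp
  -- the `p`-elements have order `p`
  have hel : ∀ (z : G) (k : ℕ), z ^ p ^ k = 1 → z ^ p = 1 := by
    intro z k hz
    have h1 : IsPGroup p (zpowers z) := by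
      obtain ⟨m, -, hm⟩ := (Nat.dvd_prime_pow hp).1 (orderOf_dvd_of_pow_eq_one hz)
      rw [IsPGroup.iff_card]
      exact ⟨m, by rw [Nat.card_zpowers, hm]⟩
    obtain ⟨R, hR⟩ := h1.exists_le_sylow
    obtain ⟨g, hg⟩ := MulAction.exists_smul_eq G R P
    have h2 : MulAut.conj g z ∈ (g • R : Sylow p G) :=
      Subgroup.smul_mem_pointwise_smul z (MulAut.conj g) (R : Subgroup G) (hR (mem_zpowers z))
    rw [hg] at h2
    have h3 := hPexp _ h2
    rw [← map_pow] at h3
    exact (MulAut.conj g).map_eq_one_iff.1 h3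
  have hrp : ∀ r, Rp p a b c r → r ^ p = 1 := by
    intro r hr
    rcases hr with rfl | rfl | ⟨t, -, rfl⟩
    · exact hc
    · exact ha
    · exact hexp _ (mul_mem (pow_mem (subset_closure (by simp)) _) (subset_closure (by simp)))
  have key : ∀ z : G, orderOf z = p → ∃ r, Rp p a b c r ∧ ∃ (u : G) (n : ℕ), u * z * u⁻¹ = r ^ n := by
    intro z hz
    obtain ⟨g, hg⟩ := exists_conj_mem_of_index hidx hz
    have hne : g * z * g⁻¹ ≠ 1 := by
      intro h
      have h1 : z = 1 := by
        have h2 : z = g⁻¹ * (g * z * g⁻¹) * g := by group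
        rw [h2, h]
        group
      rw [h1, orderOf_one] at hz
      exact hp.one_lt.ne hz
    obtain ⟨r, hr, u, n, hn, h⟩ := exists_rep hp ha hc hbc hac hab hb hg hne
    refine ⟨r, hr, u⁻¹ * g, n, ?_⟩
    calc u⁻¹ * g * z * (u⁻¹ * g)⁻¹ = u⁻¹ * (g * z * g⁻¹) * u := by group
      _ = r ^ n := by rw [h]; group
  obtain ⟨r, hr, u, n, hn⟩ := key x hx
  obtain ⟨s, hs, v, m, hm⟩ := key y hy
  refine Cfsg.Agent.H797.T5.mpair_of_rep hp hx hy (hrp r hr) (hrp s hs) hn hm ?_
  rcases H r s hr hs with ⟨g, i, j, h⟩ | ⟨g, i, j, h⟩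
  · exact ⟨g, mem_top _, i, j, fun k hk => h (hel _ k hk)⟩
  · exact MPair.symm ⟨g, mem_top _, i, j, fun k hk => h (hel _ k hk)⟩

end Main

end Cfsg.Agent.H461.T5
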