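import Cfsg.Agent.H461.T5.Conway
import Cfsg.Agent.H461.T5M.Cube

/-!
# The certificate `mpair_of_cube` for subgroups of `Co0` (helper461)

The conjugating element is `gG ^ k`.
-/

set_option autoImplicit false
set_option maxRecDepth 100000

namespace Cfsg.Agent.H461.T5

open Subgroup Cfsg Cfsg.Agent.SporadicA Cfsg.Agent.SporadicStructure.Co0Matrix Cfsg.Agent.CoOneType.CoEval
open Cfsg.Agent.LThreeCo1.Ev Cfsg.Agent.LThreeMB.Fix Cfsg.Agent.H573.Spor.Co0 Cfsg.Agent.H533.T5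
open Cfsg.Agent.H957.T5M

/-- the word of `r_i (g ^ k s_j g ^ (-k)) ^ 2` -/
def wz (k i j : ℕ) : List ℕ := wr i ++ (List.replicate k 3 ++ (wr j ++ (wr j ++ List.replicate k 4)))

/-- its `p`-th power -/
def wzp (p k i j : ℕ) : List ℕ := (List.replicate p (wz k i j)).flatten

/-- the check for the pairs `i ≤ j` of representatives with first entry `i` -/
def chkM (M : ℕ → List (List ℤ)) (p k i : ℕ) : Bool :=
  (List.range (p + 2)).all fun j => bif Nat.blt j i then true else neB' M (wzp p k i j) []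

section Gen

variable {e : ℕ → Co0} {M : ℕ → List (List ℤ)}

theorem prod_wz (k i j : ℕ) (h34 : e 3 * e 4 = 1) : ((wz k i j).map e).prod =
    ((wr i).map e).prod ^ 1 * (e 3 ^ k * ((wr j).map e).prod * (e 3 ^ k)⁻¹) ^ 2 := by
  have h4 : e 4 = (e 3)⁻¹ := (inv_eq_of_mul_eq_one_right h34).symm
  simp only [wz, List.map_append, List.prod_append, List.map_replicate, List.prod_replicate, h4, inv_pow]
  generalize e 3 ^ k = g
  generalize ((wr j).map e).prod = s
  rw [pow_one, pow_two]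
  group

theorem prod_wzp (p k i j : ℕ) (h34 : e 3 * e 4 = 1) : ((wzp p k i j).map e).prod =
    (((wr i).map e).prod ^ 1 * (e 3 ^ k * ((wr j).map e).prod * (e 3 ^ k)⁻¹) ^ 2) ^ p := by
  have key : ∀ (n : ℕ) (w : List ℕ), ((List.replicate n w).flatten.map e).prod = (w.map e).prod ^ n := by
    intro n w
    induction n with
    | zero => simp
    | succ n ih => rw [List.replicate_succ, List.flatten_cons, List.map_append, List.prod_append, ih, pow_succ']
  rw [wzp, key, prod_wz k i j h34]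

theorem pow_ne_le (hM : ∀ i, Rep (e i) (M i)) {p k : ℕ} (h : ∀ i < p + 2, chkM M p k i = true) (h34 : e 3 * e 4 = 1)
    {i j : ℕ} (hi : i < p + 2) (hj : j < p + 2) (hij : i ≤ j) :
    (((wr i).map e).prod ^ 1 * (e 3 ^ k * ((wr j).map e).prod * (e 3 ^ k)⁻¹) ^ 2) ^ p ≠ 1 := by
  have h1 := List.all_eq_true.1 (h i hi) j (List.mem_range.2 hj)
  have h0 : Nat.blt j i = false := by
    rw [← Bool.not_eq_true, Nat.blt_eq]
    omega
  rw [h0, cond_false] at h1
  have h2 := ne_of_neB' hM h1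
  rwa [prod_wzp p k i j h34] at h2

theorem pow_ne (hM : ∀ i, Rep (e i) (M i)) {p k : ℕ} (h : ∀ i < p + 2, chkM M p k i = true) (h34 : e 3 * e 4 = 1)
    {r s : Co0} (hr : Rp p (e 0) (e 1) (e 2) r) (hs : Rp p (e 0) (e 1) (e 2) s) :
    (r ^ 1 * (e 3 ^ k * s * (e 3 ^ k)⁻¹) ^ 2) ^ p ≠ 1 ∨ (s ^ 1 * (e 3 ^ k * r * (e 3 ^ k)⁻¹) ^ 2) ^ p ≠ 1 := by
  obtain ⟨i, hi, rfl⟩ := Rp.word hr
  obtain ⟨j, hj, rfl⟩ := Rp.word hs
  rcases le_total i j with hij | hij
  · exact Or.inl (pow_ne_le hM h h34 hi hj hij)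
  · exact Or.inr (pow_ne_le hM h h34 hj hi hij)

/-- **the pairs**, for a subgroup `X` of `Co₀` -/
theorem mpair_of_le {p : ℕ} [Fact p.Prime] (hp2 : p ≠ 2) (k : ℕ) (X : Subgroup (Equiv.Perm leechLattice)) (hX : X ≤ Co0)
    (h4 : ¬ p ^ 4 ∣ Nat.card X) (hM : ∀ i, Rep (e i) (M i)) (h : ∀ i < p + 2, chkM M p k i = true) (h34 : e 3 * e 4 = 1)
    (m0 : (e 0).1 ∈ X) (m1 : (e 1).1 ∈ X) (m2 : (e 2).1 ∈ X) (m3 : (e 3).1 ∈ X) (ha : e 0 ^ p = 1) (hb : e 1 ^ p = 1)
    (hc : e 2 ^ p = 1) (hc1 : e 2 ≠ 1) (hac : e 0 * e 2 = e 2 * e 0) (hbc : e 1 * e 2 = e 2 * e 1)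
    (hab : e 0 * e 1 = e 1 * e 0 * e 2) {x y : X} (hx : orderOf x = p) (hy : orderOf y = p) :
    MPair p (⊤ : Subgroup X) x y := by
  have hfin : Finite X := by
    refine Nat.finite_of_card_ne_zero fun h => ?_
    rw [h] at h4
    exact h4 (dvd_zero _)
  have inj : Function.Injective (Subgroup.inclusion hX) := Subgroup.inclusion_injective hX
  refine mpair_of_cube hp2 h4 (a := ⟨_, m0⟩) (b := ⟨_, m1⟩) (c := ⟨_, m2⟩) (inj ?_) (inj ?_) (inj ?_) (fun hcon => hc1 ?_)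
    (inj ?_) (inj ?_) (inj ?_) (fun r s hr hs => ?_) hx hy
  · rw [map_pow, map_one]; exact ha
  · rw [map_pow, map_one]; exact hb
  · rw [map_pow, map_one]; exact hc
  · exact congrArg (Subgroup.inclusion hX) hcon
  · rw [map_mul, map_mul]; exact hac
  · rw [map_mul, map_mul]; exact hbc
  · rw [map_mul, map_mul, map_mul]; exact hab
  · rcases pow_ne hM h h34 (Rp.map (Subgroup.inclusion hX) hr) (Rp.map (Subgroup.inclusion hX) hs) with h6 | h6
    · refine Or.inl ⟨⟨_, m3⟩ ^ k, 1, 2, fun hcon => h6 ?_⟩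
      have h5 := congrArg (Subgroup.inclusion hX) hcon
      simp only [map_mul, map_inv, map_pow, map_one] at h5
      exact h5
    · refine Or.inr ⟨⟨_, m3⟩ ^ k, 1, 2, fun hcon => h6 ?_⟩
      have h5 := congrArg (Subgroup.inclusion hX) hcon
      simp only [map_mul, map_inv, map_pow, map_one] at h5
      exact h5

end Gen

end Cfsg.Agent.H461.T5
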