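import Cfsg.Agent.H461.T5M.Conway
import Cfsg.Agent.H461.T5.McL

/-!
# Middle pairs of elements of order 5 in `McL` and the groups between it and `Co0` (helper461)
-/

set_option autoImplicit false
set_option maxRecDepth 100000

namespace Cfsg.Agent.H461.T5

open Subgroup Cfsg Cfsg.Agent.SporadicA Cfsg.Agent.SporadicStructure.Co0Matrix Cfsg.Agent.CoOneType.CoEval
open Cfsg.Agent.LThreeCo1.Ev Cfsg.Agent.LThreeMB.Fix Cfsg.Agent.H573.Spor.Co0 Cfsg.Agent.H957.T5M

namespace McL

open Cfsg.Agent.H573.Spor.McLFive

/-- one entry of the check -/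
theorem chkM_of (i : ℕ) (h : ∀ j < 7, (bif Nat.blt j i then true else neB' Ms (wzp 5 1 i j) []) = true) :
    chkM Ms 5 1 i = true :=
  List.all_eq_true.2 fun j hj => h j (List.mem_range.1 hj)

theorem chkM_zero : chkM Ms 5 1 0 = true := by
  refine chkM_of 0 fun j hj => ?_
  interval_cases j
  · decide +kernel
  · decide +kernel
  · decide +kernel
  · decide +kernel
  · decide +kernel
  · decide +kernel
  · decide +kernel

theorem chkM_one : chkM Ms 5 1 1 = true := by
  refine chkM_of 1 fun j hj => ?_
  interval_cases j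
  · rfl
  · decide +kernel
  · decide +kernel
  · decide +kernel
  · decide +kernel
  · decide +kernel
  · decide +kernel

theorem chkM_two : chkM Ms 5 1 2 = true := by
  refine chkM_of 2 fun j hj => ?_
  interval_cases j
  · rfl
  · rfl
  · decide +kernel
  · decide +kernel
  · decide +kernel
  · decide +kernel
  · decide +kernel

theorem chkM_three : chkM Ms 5 1 3 = true := by
  refine chkM_of 3 fun j hj => ?_
  interval_cases j
  · rfl
  · rfl
  · rfl
  · decide +kernel
  · decide +kernel
  · decide +kernel
  · decide +kernel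

theorem chkM_four : chkM Ms 5 1 4 = true := by
  refine chkM_of 4 fun j hj => ?_
  interval_cases j
  · rfl
  · rfl
  · rfl
  · rfl
  · decide +kernel
  · decide +kernel
  · decide +kernel

theorem chkM_all : ∀ i < 5 + 2, chkM Ms 5 1 i = true := by
  intro i hi
  interval_cases i
  · exact chkM_zero
  · exact chkM_one
  · exact chkM_two
  · exact chkM_three
  · exact chkM_four
  · decide +kernel
  · decide +kernel

/-- **the pairs of elements of order 5** of a subgroup of `Co₀` containing `McL` -/
theorem mpair (X : Subgroup (Equiv.Perm leechLattice)) (hX : X ≤ Co0) (hXM : ∀ g ∈ Spor.McL, g ∈ X)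
    (h4 : ¬ 5 ^ 4 ∣ Nat.card X) {x y : X} (hx : orderOf x = 5) (hy : orderOf y = 5) : MPair 5 (⊤ : Subgroup X) x y :=
  have : Fact (Nat.Prime 5) := ⟨by norm_num⟩
  mpair_of_le (e := e) (by norm_num) 1 X hX h4 hM chkM_all gh (hXM _ memA) (hXM _ memB) (hXM _ memC) (hXM _ memG) a_pow
    b_pow c_pow c_ne ac bc ab hx hy

end McL

end Cfsg.Agent.H461.T5
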